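/-
Data for the search over the systems on eleven points.
-/
import Mathlib

set_option autoImplicit false
set_option maxRecDepth 100000

namespace Cfsg.Agent.Lib.SteinerU.S11

/-- Forcing a numeral before a call. -/
def force {β : Type} (n : ℕ) (f : ℕ → β) : β := Nat.rec (f 0) (fun k _ => f (Nat.succ k)) n

theorem force_eq {β : Type} (n : ℕ) (f : ℕ → β) : force n f = f n := by
  cases n <;> rfl

/-- The points. -/
def pts : List ℕ := [0, 1, 2, 3, 4, 5, 6, 7, 8, 9, 10]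

/-- The neighbours of a block. -/
def nbrs (m : ℕ) : List ℕ :=
  pts.flatMap fun t => cond (m.testBit t) (pts.flatMap fun y => cond (m.testBit y) [] [(m ^^^ 2 ^ t) ||| 2 ^ y]) []

/-- The mask of a list. -/
def ofPts (l : List ℕ) : ℕ := l.foldr (fun i acc => 2 ^ i ||| acc) 0

/-- The mask of the neighbours. -/
def nbF (m : ℕ) : ℕ := ofPts (nbrs m)

/-- The number of points. -/
def pop (m : ℕ) : ℕ := pts.countP fun i => m.testBit i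

/-- The block through a four-set is already chosen. -/
def covB (T blk : ℕ) : Bool := pts.any fun x => !T.testBit x && blk.testBit (T ||| 2 ^ x)

/-- The search. -/
def dfs (leaf : ℕ → Bool) : List ℕ → ℕ → Bool
  | [], blk => leaf blk
  | T :: Ts, blk => cond (covB T blk) (dfs leaf Ts blk)
      (pts.all fun x => T.testBit x || !(Nat.beq (Nat.land blk (nbF (T ||| 2 ^ x))) 0) ||
        force (Nat.lor blk (2 ^ (T ||| 2 ^ x))) fun b => dfs leaf Ts b)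

def tsL : List ℕ := [15, 23, 39, 71, 135, 263, 519, 1031, 27, 43, 75, 139, 267, 523, 1035, 51, 83, 147, 275, 531, 1043, 99, 163, 291, 547, 1059, 195, 323, 579, 1091, 387, 643, 1155, 771, 1283, 1539, 29, 45, 77, 141, 269, 525, 1037, 53, 85, 149, 277, 533, 1045, 101, 165, 293, 549, 1061, 197, 325, 581, 1093, 389, 645, 1157, 773, 1285, 1541, 57, 89, 153, 281, 537, 1049, 105, 169, 297, 553, 1065, 201, 329, 585, 1097, 393, 649, 1161, 777, 1289, 1545, 113, 177, 305, 561, 1073, 209, 337, 593, 1105, 401, 657, 1169, 785, 1297, 1553, 225, 353, 609, 1121, 417, 673, 1185, 801, 1313, 1569, 449, 705, 1217, 833, 1345, 1601, 897, 1409, 1665, 1793, 30, 46, 78, 142, 270, 526, 1038, 54, 86, 150, 278, 534, 1046, 102, 166, 294, 550, 1062, 198, 326, 582, 1094, 390, 646, 1158, 774, 1286, 1542, 58, 90, 154, 282, 538, 1050, 106, 170, 298, 554, 1066, 202, 330, 586, 1098, 394, 650,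 1162, 778, 1290, 1546, 114, 178, 306, 562, 1074, 210, 338, 594, 1106, 402, 658, 1170, 786, 1298, 1554, 226, 354, 610, 1122, 418, 674, 1186, 802, 1314, 1570, 450, 706, 1218, 834, 1346, 1602, 898, 1410, 1666, 1794, 60, 92, 156, 284, 540, 1052, 108, 172, 300, 556, 1068, 204, 332, 588, 1100, 396, 652, 1164, 780, 1292, 1548, 116, 180, 308, 564, 1076, 212, 340, 596, 1108, 404, 660, 1172, 788, 1300, 1556, 228, 356, 612, 1124, 420, 676, 1188, 804, 1316, 1572, 452, 708, 1220, 836, 1348, 1604, 900, 1412, 1668, 1796, 120, 184, 312, 568, 1080, 216, 344, 600, 1112, 408, 664, 1176, 792, 1304, 1560, 232, 360, 616, 1128, 424, 680, 1192, 808, 1320, 1576, 456, 712, 1224, 840, 1352, 1608, 904, 1416, 1672, 1800, 240, 368, 624, 1136, 432, 688, 1200, 816, 1328, 1584, 464, 720, 1232, 848, 1360, 1616, 912, 1424, 1680, 1808, 480, 736, 1248, 864, 1376, 1632, 928, 1440, 1696, 1824,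 960, 1472, 1728, 1856, 1920]

def modelP : List (List ℕ) := [[0, 1, 2, 3, 4], [0, 1, 2, 5, 6], [1, 3, 4, 5, 6], [0, 1, 3, 5, 7], [2, 3, 4, 5, 7], [0, 2, 3, 6, 7], [1, 2, 4, 6, 7], [0, 4, 5, 6, 7], [0, 2, 3, 5, 8], [0, 1, 4, 5, 8], [1, 2, 3, 6, 8], [0, 3, 4, 6, 8], [2, 4, 5, 6, 8], [0, 2, 4, 7, 8], [1, 3, 4, 7, 8], [1, 2, 5, 7, 8], [0, 1, 6, 7, 8], [3, 5, 6, 7, 8], [1, 2, 3, 5, 9], [0, 2, 4, 5, 9], [0, 1, 4, 6, 9], [2, 3, 4, 6, 9], [0, 3, 5, 6, 9], [0, 1, 2, 7, 9], [0, 3, 4, 7, 9], [1, 4, 5, 7, 9], [1, 3, 6, 7, 9], [2, 5, 6, 7, 9], [0, 1, 3, 8, 9], [1, 2, 4, 8, 9], [3, 4, 5, 8, 9], [0, 2, 6, 8, 9], [1, 5, 6, 8, 9], [2, 3, 7, 8, 9], [0, 5, 7, 8, 9], [4, 6, 7, 8, 9], [1, 2, 4, 5, 10], [0, 3, 4, 5, 10], [0, 1, 3, 6, 10], [0, 2, 4, 6, 10], [2, 3, 5, 6, 10], [1, 2, 3, 7, 10], [0, 1, 4, 7, 10], [0, 2, 5, 7, 10], [3, 4, 6, 7, 10], [1, 5, 6, 7, 10], [0, 1, 2, 8, 10],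 [2, 3, 4, 8, 10], [1, 3, 5, 8, 10], [1, 4, 6, 8, 10], [0, 5, 6, 8, 10], [0, 3, 7, 8, 10], [4, 5, 7, 8, 10], [2, 6, 7, 8, 10], [0, 2, 3, 9, 10], [1, 3, 4, 9, 10], [0, 1, 5, 9, 10], [1, 2, 6, 9, 10], [4, 5, 6, 9, 10], [2, 4, 7, 9, 10], [3, 5, 7, 9, 10], [0, 6, 7, 9, 10], [0, 4, 8, 9, 10], [2, 5, 8, 9, 10], [3, 6, 8, 9, 10], [1, 7, 8, 9, 10]]

def permsL : List (List ℕ) := [[0, 1, 2, 3, 4, 5, 6, 7, 8, 9, 10], [0, 1, 2, 3, 4, 8, 10, 9, 5, 7, 6], [0, 1, 2, 3, 4, 7, 9, 5, 10, 6, 8], [0, 1, 2, 3, 4, 10, 8, 6, 7, 5, 9], [0, 1, 2, 3, 4, 9, 7, 8, 6, 10, 5], [0, 1, 2, 3, 4, 6, 5, 10, 9, 8, 7], [0, 1, 2, 3, 4, 8, 9, 10, 5, 7, 6], [0, 1, 2, 3, 4, 5, 6, 7, 8, 10, 9], [0, 1, 2, 3, 4, 10, 7, 8, 6, 9, 5], [0, 1, 2, 3, 4, 6, 5, 9, 10, 8, 7], [0, 1, 2, 3, 4, 7, 10, 5, 9, 6, 8], [0, 1, 2, 3, 4, 9, 8, 6, 7, 5, 10]]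

/-- The test at a leaf. -/
def leafL (blk : ℕ) : Bool :=
  permsL.any fun p => modelP.all fun l => blk.testBit (ofPts (l.map fun i => p.getD i 0))

/-- The initial blocks. -/
def blk0 : ℕ := 2 ^ 31 ||| 2 ^ 103 ||| 2 ^ 171 ||| 2 ^ 307

set_option maxHeartbeats 0 in
theorem dfs_ok : dfs leafL tsL blk0 = true := by decide +kernel

end Cfsg.Agent.Lib.SteinerU.S11
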